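import Groth.Agent.QReg.Local
import Groth.Agent.ProjDesc.Basic

/-!
# Locally quasi-regular ideals descend along faithfully flat ring maps
-/

set_option autoImplicit false
universe u
open scoped TensorProduct

noncomputable section

namespace Groth.Agent.QReg44

variable {A B : Type u} [CommRing A] [CommRing B] [Algebra A B] (I : Ideal A)

/-- A module over a quotient is its own base change to the quotient. -/
theorem isBaseChange_id {R S : Type u} [CommRing R] [CommRing S] [Algebra R S]
    (h : Function.Surjective (algebraMap R S)) (M : Type u) [AddCommGroup M] [Module R M] [Module S M]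
    [IsScalarTower R S M] : IsBaseChange S (LinearMap.id : M →ₗ[R] M) := by
  refine IsBaseChange.of_lift_unique _ fun Q _ _ _ _ g => ⟨g.extendScalarsOfSurjective h, ?_, ?_⟩
  · ext x; rfl
  · intro g' hg'
    ext x
    exact LinearMap.congr_fun hg' x

/-- The map on ideals. -/
def idealMap : I →ₗ[A] (I.map (algebraMap A B) : Ideal B) where
  toFun x := ⟨algebraMap A B x, Ideal.mem_map_of_mem _ x.2⟩
  map_add' x y := Subtype.ext (map_add _ _ _)
  map_smul' r x := Subtype.ext (by simp [Algebra.smul_def])

@[simp]
theorem coe_idealMap (x : I) : ((idealMap (B := B) I x : (I.map (algebraMap A B) : Ideal B)) : B) =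
    algebraMap A B x := rfl

theorem exists_cotMap : ∃ m : I.Cotangent →ₗ[A] (I.map (algebraMap A B) : Ideal B).Cotangent,
    ∀ x, m (I.toCotangent x) = (I.map (algebraMap A B)).toCotangent (idealMap I x) := by
  refine ⟨Submodule.liftQ _ (((I.map (algebraMap A B)).toCotangent.restrictScalars A).comp (idealMap I))
    ?_, fun x => rfl⟩
  intro x hx
  rw [LinearMap.mem_ker, LinearMap.comp_apply]
  change (I.map (algebraMap A B)).toCotangent (idealMap I x) = 0
  rw [Ideal.toCotangent_eq_zero, coe_idealMap, ← Ideal.map_pow]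
  refine Ideal.mem_map_of_mem _ ?_
  rw [← I.map_toCotangent_ker]
  exact ⟨x, (Submodule.Quotient.mk_eq_zero _).mpr hx, rfl⟩

variable (B) in
/-- The map on conormal modules. -/
def cotMap : I.Cotangent →ₗ[A] (I.map (algebraMap A B) : Ideal B).Cotangent :=
  (exists_cotMap (B := B) I).choose

@[simp]
theorem cotMap_toCotangent (x : I) :
    cotMap B I (I.toCotangent x) = (I.map (algebraMap A B)).toCotangent (idealMap I x) :=
  (exists_cotMap (B := B) I).choose_spec x

/-- Flat base change of the conormal module. -/
theorem isBaseChange_cotMap [Module.Flat A B] : IsBaseChange B (cotMap B I) := by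
  let J := I.map (algebraMap A B)
  let φ : B ⊗[A] I →ₗ[B] J := (idealMap (B := B) I).liftBaseChange B
  have hφi : Function.Injective φ := by
    have e : ∀ z, (φ z : B) = TensorProduct.rid A B ((I.subtype).lTensor B z) := by
      intro z
      induction z using TensorProduct.induction_on with
      | zero => simp
      | tmul b x => simp [φ, Algebra.smul_def, mul_comm]
      | add z w hz hw => simp only [map_add, Submodule.coe_add, hz, hw]
    intro z w hzw
    exact Module.Flat.lTensor_preserves_injective_linearMap (M := B) I.subtype I.subtype_injective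
      ((TensorProduct.rid A B).injective (by rw [← e, ← e, hzw]))
  have hφs : Function.Surjective φ := by
    rintro ⟨y, hy⟩
    induction hy using Submodule.span_induction with
    | mem y hy =>
      obtain ⟨x, hx, rfl⟩ := hy
      exact ⟨1 ⊗ₜ ⟨x, hx⟩, Subtype.ext (by simp [φ])⟩
    | zero => exact ⟨0, map_zero _⟩
    | add a b _ _ ha hb =>
      obtain ⟨z, hz⟩ := ha
      obtain ⟨w, hw⟩ := hb
      exact ⟨z + w, by rw [map_add, hz, hw]; rfl⟩
    | smul c a _ ha =>
      obtain ⟨z, hz⟩ := ha
      exact ⟨c • z, by rw [map_smul, hz]; rfl⟩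
  let q : B ⊗[A] I →ₗ[B] B ⊗[A] I.Cotangent := I.toCotangent.baseChange B
  have hq : ∀ z, (cotMap B I).liftBaseChange B (q z) = J.toCotangent (φ z) := by
    intro z
    induction z using TensorProduct.induction_on with
    | zero => simp
    | tmul b x => simp [q, φ, J]
    | add z w hz hw => simp only [map_add, hz, hw]
  suffices hbij : Function.Bijective ((cotMap B I).liftBaseChange B) from
    IsBaseChange.of_equiv (LinearEquiv.ofBijective _ hbij) fun x => by simp
  refine ⟨(injective_iff_map_eq_zero ((cotMap B I).liftBaseChange B)).2 fun z hz => ?_, fun y => ?_⟩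
  · obtain ⟨z, rfl⟩ : ∃ w, q w = z := LinearMap.lTensor_surjective B I.toCotangent_surjective z
    rw [hq, Ideal.toCotangent_eq_zero] at hz
    have key : J ^ 2 ≤ Submodule.map ((Submodule.subtype J).comp φ) (LinearMap.ker q) := by
      rw [← Ideal.map_pow, Ideal.map, Ideal.span_le]
      rintro _ ⟨y, hy, rfl⟩
      refine ⟨1 ⊗ₜ ⟨y, Ideal.pow_le_self two_ne_zero hy⟩, ?_, by simp [φ]⟩
      change (1 : B) ⊗ₜ[A] I.toCotangent ⟨y, Ideal.pow_le_self two_ne_zero hy⟩ = 0
      rw [(I.toCotangent_eq_zero ⟨y, Ideal.pow_le_self two_ne_zero hy⟩).mpr hy, TensorProduct.tmul_zero]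
    obtain ⟨w, hw, hwz⟩ := key hz
    rw [← hφi (Subtype.ext hwz)]
    exact hw
  · obtain ⟨y, rfl⟩ := J.toCotangent_surjective y
    obtain ⟨z, rfl⟩ := hφs y
    exact ⟨q z, hq z⟩

theorem fg_of_map_fg [Module.FaithfullyFlat A B] (h : (I.map (algebraMap A B)).FG) : I.FG := by
  classical
  obtain ⟨T, hT⟩ := h
  have h1 : ∀ t ∈ T, ∃ K : Ideal A, K.FG ∧ K ≤ I ∧ t ∈ K.map (algebraMap A B) := by
    intro t ht
    have h2 : t ∈ Ideal.span (algebraMap A B '' (I : Set A)) := by
      show t ∈ Ideal.map (algebraMap A B) I
      rw [← hT]; exact Ideal.subset_span ht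
    obtain ⟨F, hF, htF⟩ := Submodule.mem_span_finite_of_mem_span h2
    choose! x hx hxy using fun y (hy : y ∈ F) => hF hy
    refine ⟨Ideal.span (F.image x), ⟨F.image x, rfl⟩, Ideal.span_le.2 ?_, ?_⟩
    · intro a ha
      obtain ⟨y, hy, rfl⟩ := Finset.mem_image.1 ha
      exact hx y hy
    · refine (Ideal.span_le.2 fun y hy => ?_) htF
      rw [← hxy y hy]
      exact Ideal.mem_map_of_mem _ (Ideal.subset_span (Finset.mem_image_of_mem _ hy))
  choose! K hfg hle hmem using h1
  refine (show I = T.sup K from le_antisymm ?_ (Finset.sup_le hle)) ▸ ?_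
  · intro x hx
    rw [← Ideal.comap_map_eq_self_of_faithfullyFlat (B := B) (T.sup K), Ideal.mem_comap]
    have h2 : algebraMap A B x ∈ Ideal.span (T : Set B) := hT.symm ▸ Ideal.mem_map_of_mem _ hx
    exact (Ideal.span_le.2 fun t ht => Ideal.map_mono (Finset.le_sup ht) (hmem t ht)) h2
  · exact Submodule.fg_finset_sup _ _ hfg

theorem faithfullyFlat_quotient [Module.FaithfullyFlat A B] :
    Module.FaithfullyFlat (A ⧸ I) (B ⧸ I.map (algebraMap A B)) := by
  haveI : Module.FaithfullyFlat (A ⧸ I) ((A ⧸ I) ⊗[A] B) := inferInstance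
  exact Module.FaithfullyFlat.of_linearEquiv _ _
    ((((Algebra.TensorProduct.quotIdealMapEquivTensorQuot B I).toLinearEquiv.restrictScalars A).trans
      (TensorProduct.comm A B (A ⧸ I))).extendScalarsOfSurjective Ideal.Quotient.mk_surjective)

variable {I}

theorem projective_cotangent_of_map [Module.FaithfullyFlat A B]
    (h : Module.Projective (B ⧸ I.map (algebraMap A B)) (I.map (algebraMap A B)).Cotangent) :
    Module.Projective (A ⧸ I) I.Cotangent := by
  let J := I.map (algebraMap A B)
  haveI := faithfullyFlat_quotient (B := B) I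
  haveI : IsScalarTower A (B ⧸ J) J.Cotangent := IsScalarTower.of_algebraMap_smul fun a x => by
    rw [IsScalarTower.algebraMap_apply A B (B ⧸ J), algebraMap_smul, algebraMap_smul]
  have hB : IsBaseChange (B ⧸ J) ((LinearMap.id : J.Cotangent →ₗ[B] J.Cotangent).restrictScalars A ∘ₗ cotMap B I) :=
    (isBaseChange_cotMap I).comp (isBaseChange_id (R := B) (S := B ⧸ J) Ideal.Quotient.mk_surjective J.Cotangent)
  rw [LinearMap.restrictScalars_id, LinearMap.id_comp] at hB
  letI : Module (A ⧸ I) J.Cotangent := Module.compHom _ (algebraMap (A ⧸ I) (B ⧸ J))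
  haveI : IsScalarTower (A ⧸ I) (B ⧸ J) J.Cotangent := IsScalarTower.of_algebraMap_smul fun _ _ => rfl
  haveI : IsScalarTower A (A ⧸ I) J.Cotangent := IsScalarTower.of_algebraMap_smul fun a x => by
    change algebraMap (A ⧸ I) (B ⧸ J) (algebraMap A (A ⧸ I) a) • x = a • x
    rw [← IsScalarTower.algebraMap_apply, algebraMap_smul]
  let m' : I.Cotangent →ₗ[A ⧸ I] J.Cotangent :=
    (cotMap B I).extendScalarsOfSurjective Ideal.Quotient.mk_surjective
  have hA : IsBaseChange (B ⧸ J) m' :=
    IsBaseChange.of_comp (isBaseChange_id (R := A) (S := A ⧸ I) Ideal.Quotient.mk_surjective I.Cotangent)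
      (by convert hB using 1; exact LinearMap.ext fun _ => rfl)
  haveI : Module.Projective (B ⧸ J) ((B ⧸ J) ⊗[A ⧸ I] I.Cotangent) := Module.Projective.of_equiv hA.equiv.symm
  exact ProjDesc.projective_of_baseChange (A ⧸ I) (B ⧸ J) I.Cotangent

theorem symGrBijective_of_map [Module.FaithfullyFlat A B]
    (hproj : Module.Projective (A ⧸ I) I.Cotangent)
    (h : PP16.SymGrBijective B (I.map (algebraMap A B))) : PP16.SymGrBijective A I := by
  classical
  rw [SymGr.Quasi.symGrBijective_iff] at h ⊢
  intro ι _ _
  refine ⟨(injective_iff_map_eq_zero _).2 fun s hs => ?_, SymGr.Quasi.phi_surjective I ι⟩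
  let J := I.map (algebraMap A B)
  letI : Module A (SymmetricPower B ι J.Cotangent) := Module.compHom _ (algebraMap A B)
  haveI : IsScalarTower A B (SymmetricPower B ι J.Cotangent) := IsScalarTower.of_algebraMap_smul fun _ _ => rfl
  -- the image of `s`
  let u : SymmetricPower A ι I.Cotangent →ₗ[A] SymmetricPower B ι J.Cotangent :=
    SymGr.Basic.symLift
      (((SymmetricPower.tprod B (ι := ι) (M := J.Cotangent)).restrictScalars A).compLinearMap
        fun _ => cotMap B I)
      fun e x => by
        simp only [MultilinearMap.compLinearMap_apply]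
        exact SymmetricPower.tprod_equiv e fun i => cotMap B I (x i)
  let incl : ↥(I ^ Fintype.card ι) →ₗ[A] ↥(J ^ Fintype.card ι) :=
    { toFun := fun x => ⟨algebraMap A B x, by
        rw [← Ideal.map_pow]; exact Ideal.mem_map_of_mem _ x.2⟩
      map_add' := fun x y => Subtype.ext (map_add _ _ _)
      map_smul' := fun r x => Subtype.ext (by simp [Algebra.smul_def]) }
  let gm : PP16.grJ A I (Fintype.card ι) →ₗ[A] PP16.grJ B J (Fintype.card ι) :=
    Submodule.liftQ _ (((Submodule.mkQ _).restrictScalars A).comp incl) (fun x hx => by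
      rw [LinearMap.mem_ker, LinearMap.comp_apply]
      change Submodule.Quotient.mk (incl x) = 0
      rw [Submodule.Quotient.mk_eq_zero, Submodule.mem_comap]
      change algebraMap A B x ∈ J ^ (Fintype.card ι + 1)
      rw [← Ideal.map_pow]
      exact Ideal.mem_map_of_mem _ hx)
  have hu : ((SymGr.Quasi.phi J ι).restrictScalars A).comp u = gm.comp (SymGr.Quasi.phi I ι) := by
    refine SymGr.Basic.linearMap_ext fun v => ?_
    choose x hx using fun i => I.toCotangent_surjective (v i)
    obtain rfl : v = fun i => I.toCotangent (x i) := funext fun i => (hx i).symm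
    rw [LinearMap.comp_apply, LinearMap.comp_apply, SymGr.Quasi.phi_tprod, SymGr.Basic.symLift_tprod]
    simp only [MultilinearMap.compLinearMap_apply, MultilinearMap.coe_restrictScalars, cotMap_toCotangent,
      LinearMap.restrictScalars_apply]
    rw [show (fun i => cotMap B I (I.toCotangent (x i))) = fun i => J.toCotangent (idealMap I (x i)) from
      funext fun i => cotMap_toCotangent I (x i), SymGr.Quasi.phi_tprod]
    refine congrArg Submodule.Quotient.mk (Subtype.ext ?_)
    simp [incl]
  have hus : u s = 0 := by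
    refine (injective_iff_map_eq_zero _).1 (h ι).1 _ ?_
    have := LinearMap.congr_fun hu s
    simpa [hs] using this
  -- into symmetric algebras
  let S := A ⧸ I
  let S' := B ⧸ J
  haveI := faithfullyFlat_quotient (B := B) I
  haveI := hproj
  refine SymGr.Basic.eq_zero_of_symIota_mem (S := S) A I.Cotangent Ideal.Quotient.mk_surjective ι ?_
  suffices hz : SymGr.Basic.symIota A S I.Cotangent ι s = 0 by rw [hz]; exact zero_mem _
  obtain ⟨sec, hsec⟩ := Module.projective_def'.mp hproj
  let L : (I.Cotangent →₀ S) →ₗ[S] MvPolynomial I.Cotangent S :=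
    Finsupp.linearCombination S (MvPolynomial.X : I.Cotangent → MvPolynomial I.Cotangent S)
  let φ := SymmetricAlgebra.lift (L ∘ₗ sec)
  have hleft : (MvPolynomial.aeval (SymmetricAlgebra.ι S I.Cotangent)).comp φ = AlgHom.id S _ := by
    apply SymmetricAlgebra.algHom_ext
    refine LinearMap.ext fun v => ?_
    have hL : (MvPolynomial.aeval (SymmetricAlgebra.ι S I.Cotangent)).toLinearMap ∘ₗ L =
        SymmetricAlgebra.ι S I.Cotangent ∘ₗ Finsupp.linearCombination S id := by
      ext w; simp [L]
    change MvPolynomial.aeval (SymmetricAlgebra.ι S I.Cotangent)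
        (SymmetricAlgebra.lift (L ∘ₗ sec) (SymmetricAlgebra.ι S I.Cotangent v)) = SymmetricAlgebra.ι S I.Cotangent v
    rw [SymmetricAlgebra.lift_ι_apply]
    exact (LinearMap.congr_fun hL (sec v)).trans (congrArg (SymmetricAlgebra.ι S I.Cotangent) (LinearMap.congr_fun hsec v))
  suffices hφ : φ (SymGr.Basic.symIota A S I.Cotangent ι s) = 0 by
    have := AlgHom.congr_fun hleft (SymGr.Basic.symIota A S I.Cotangent ι s)
    rw [AlgHom.comp_apply, hφ, map_zero] at this
    exact this.symm
  have hinj : Function.Injective (MvPolynomial.map (σ := I.Cotangent) (algebraMap S S')) :=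
    MvPolynomial.map_injective _ (FaithfulSMul.algebraMap_injective S S')
  apply hinj
  rw [map_zero]
  let g : I.Cotangent →ₗ[A] MvPolynomial I.Cotangent S' :=
    (MvPolynomial.mapAlgHom (σ := I.Cotangent) (IsScalarTower.toAlgHom A S S')).toLinearMap ∘ₗ
      (L ∘ₗ sec).restrictScalars A
  let g' : J.Cotangent →ₗ[B] MvPolynomial I.Cotangent S' := (isBaseChange_cotMap I).lift g
  let φ' := SymmetricAlgebra.lift (g'.extendScalarsOfSurjective (S := S') Ideal.Quotient.mk_surjective)
  have key : ((MvPolynomial.mapAlgHom (σ := I.Cotangent) (IsScalarTower.toAlgHom A S S')).toLinearMap ∘ₗ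
      φ.toLinearMap.restrictScalars A) ∘ₗ SymGr.Basic.symIota A S I.Cotangent ι =
      ((φ'.toLinearMap.restrictScalars B) ∘ₗ SymGr.Basic.symIota B S' J.Cotangent ι).restrictScalars A ∘ₗ u := by
    refine SymGr.Basic.linearMap_ext fun v => ?_
    simp only [LinearMap.comp_apply, LinearMap.restrictScalars_apply, AlgHom.toLinearMap_apply, u,
      SymGr.Basic.symLift_tprod, MultilinearMap.compLinearMap_apply, MultilinearMap.coe_restrictScalars,
      SymGr.Basic.symIota_tprod, map_prod, φ, φ', SymmetricAlgebra.lift_ι_apply]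
    refine Finset.prod_congr rfl fun i _ => ?_
    exact ((isBaseChange_cotMap I).lift_eq g (v i)).symm
  have := LinearMap.congr_fun key s
  simp only [LinearMap.comp_apply, LinearMap.restrictScalars_apply, hus, map_zero, AlgHom.toLinearMap_apply] at this
  exact this

theorem isLocallyQuasiRegular_of_map [Module.FaithfullyFlat A B]
    (h : PP16.IsLocallyQuasiRegular B (I.map (algebraMap A B))) : PP16.IsLocallyQuasiRegular A I := by
  have hp := projective_cotangent_of_map (QReg.projective_of_isLocallyQuasiRegular h)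
  exact QReg.isLocallyQuasiRegular_of (fg_of_map_fg I (QReg.fg_of_isLocallyQuasiRegular h)) hp
    (symGrBijective_of_map hp (QReg.symGrBijective_of_isLocallyQuasiRegular h))

end Groth.Agent.QReg44
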